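import Cfsg.Agent.H483.Rad23.Base
import Cfsg.Agent.KFacts.FiTF.FixZ_m3
import Cfsg.Agent.OddHalf.D4.Spor.FiTF_m3
import Cfsg.Agent.R08.NoFpf
import Cfsg.Agent.Fischer.Fi23Simple
import Cfsg.Agent.KFacts.FiTF.FrameF
import Cfsg.Agent.FastGrp
import Cfsg.Agent.Prune
set_option linter.all false
prune_inst 0x7f00000000000000000000000000000000000000000000000000000000000000000000000000000000000000000000000000000000000000000000000000000000000000000000000000000000000000003fffffffffffffffffffffffffffbeffbdffffffff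
open scoped Cfsg.Agent.FastGrp

/-!
# Radical involutory automorphisms: `Fi24'` (helper842, market task 1551)

* `equiv_cent` : the centralizer in `Fi24'` of a transposition of `Fi24` is isomorphic to `Fi23`;
* `row2_fi24`.
-/

set_option autoImplicit false

namespace Cfsg.Agent.H842.RadTwo

/-! ### An involution commutes with a transposition (after `CpAutFi24.OutInv`, `CpAut/TwoAll.lean`) -/

section Inv

open Cfsg Cfsg.Agent.R01
open Cfsg.Agent.R08.TetBasic Cfsg.Agent.R08.TetTwo Cfsg.Agent.R08.TetThree Cfsg.Agent.R08.TetPair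

section Gen

variable {F P : Type*} [Group F] [Group P] {L : Set F} {F0 : Subgroup F} {T : Set P}

/-- The automorphism of `P` induced by an involution `t` (normalising `F0`) which interchanges `a` and `b`. -/
theorem exists_theta (h : Pre L F0 T) {a b t : F} (ha : a ∈ L) (hb : b ∈ L) (hne : a ≠ b)
    (hab : Commute a b) (ht : ∀ x ∈ F0, t * x * t ∈ F0) (htt : t * t = 1) (hta : t * a * t = b) :
    ∃ (π : F → P) (θ : P ≃* P), Pi L F0 T a b π ∧ (∀ p, θ (θ p) = p) ∧
      ∀ x, InQ F0 a b x → InQ F0 a b (t * x * t) ∧ θ (π x) = π (t * x * t) := by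
  obtain ⟨π, hP⟩ := h.exists_pi ha hb hne hab
  have tt : ∀ c : F, t * (t * c * t) * t = c := by
    intro c
    calc t * (t * c * t) * t = (t * t) * c * (t * t) := by group
      _ = c := by rw [htt, one_mul, mul_one]
  have tm : ∀ c d : F, t * (c * d) * t = t * c * t * (t * d * t) := by
    intro c d
    calc t * (c * d) * t = t * c * 1 * d * t := by group
      _ = t * c * (t * t) * d * t := by rw [htt]
      _ = t * c * t * (t * d * t) := by group
  have htb : t * b * t = a := by rw [← hta, tt]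
  have tc : ∀ c d : F, Commute c d → Commute (t * c * t) (t * d * t) := by
    intro c d hcd
    show _ = _
    rw [← tm, ← tm, hcd.eq]
  have hq : ∀ x, InQ F0 a b x → InQ F0 a b (t * x * t) := by
    intro x hx
    refine ⟨ht x hx.f0, ?_, ?_⟩
    · have := tc x b hx.cb; rwa [htb] at this
    · have := tc x a hx.ca; rwa [hta] at this
  have tab : t * (a * b) * t = a * b := by rw [tm, hta, htb, hab.eq]
  choose s hs1 hs2 using hP.surj
  have qab : InQ F0 a b (a * b) := h.inQ ha hb hab hab.symm (Commute.refl b)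
  -- well defined
  have key : ∀ x, InQ F0 a b x → π (t * s (π x) * t) = π (t * x * t) := by
    intro x hx
    rcases hP.eq_or (hs1 (π x)) hx (hs2 (π x)) with h1 | h1
    · rw [h1]
    · rw [h1, tm, tab, hP.mul _ (hq x hx) _ qab, hP.ab, mul_one]
  have inv : ∀ p, π (t * s (π (t * s p * t)) * t) = p := by
    intro p
    rw [key _ (hq _ (hs1 p)), tt, hs2]
  refine ⟨π,
    { toFun := fun p => π (t * s p * t)
      invFun := fun p => π (t * s p * t)
      left_inv := inv
      right_inv := inv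
      map_mul' := fun p q => by
        have h1 : π (s p * s q) = p * q := by rw [hP.mul _ (hs1 p) _ (hs1 q), hs2, hs2]
        rw [← h1, key _ ((hs1 p).mul (hs1 q)), tm, hP.mul _ (hq _ (hs1 p)) _ (hq _ (hs1 q))] },
    hP, inv, ?_⟩
  intro x hx
  exact ⟨hq x hx, key x hx⟩

/-- An involution normalising `F0` commutes with some member of `L`. -/
theorem exists_commute (h : Pre L F0 T)
    (hFf : ∀ θ : P ≃* P, (∀ x, θ (θ x) = x) → ¬ ∀ d ∈ T, θ d ∈ T ∧ θ d ≠ d ∧ θ d * d = d * θ d)
    {t : F} (ht : ∀ x ∈ F0, t * x * t ∈ F0) (htt : t * t = 1) : ∃ f ∈ L, Commute t f := by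
  by_contra hcon
  push Not at hcon
  have hti : t⁻¹ = t := inv_eq_of_mul_eq_one_left htt
  have tt : ∀ c : F, t * (t * c * t) * t = c := by
    intro c
    calc t * (t * c * t) * t = (t * t) * c * (t * t) := by group
      _ = c := by rw [htt, one_mul, mul_one]
  have tm : ∀ c d : F, t * (c * d) * t = t * c * t * (t * d * t) := by
    intro c d
    calc t * (c * d) * t = t * c * 1 * d * t := by group
      _ = t * c * (t * t) * d * t := by rw [htt]
      _ = t * c * t * (t * d * t) := by group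
  have tL : ∀ c ∈ L, t * c * t ∈ L := by
    intro c hc
    have := h.conj t c hc
    rwa [hti] at this
  have fix : ∀ f ∈ L, t * f * t ≠ f := by
    intro f hf h1
    apply hcon f hf
    show t * f = f * t
    calc t * f = t * f * (t * t) := by rw [htt, mul_one]
      _ = t * f * t * t := by group
      _ = f * t := by rw [h1]
  have com : ∀ c ∈ L, Commute (t * c * t) c := by
    intro c hc
    rcases h.three c hc (t * c * t) (tL c hc) with h1 | h1
    · exact h1.symm
    · exfalso
      have h2 : c * (t * c * t) * c ∈ L := by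
        have := h.conj c (t * c * t) (tL c hc)
        rwa [inv_eq_of_mul_eq_one_left (h.sq c hc)] at this
      apply fix _ h2
      rw [tm, tm, tt]
      exact h1.symm
  obtain ⟨a, ha⟩ := h.ne
  obtain ⟨π, θ, hP, hθ, hθπ⟩ := exists_theta h ha (tL a ha) (fix a ha).symm (com a ha).symm ht htt rfl
  apply hFf θ hθ
  intro d hd
  obtain ⟨c, hc, n1, n2, c1, c2, rfl⟩ := hP.lift d hd
  have q1 := h.inQ ha hc (com a ha).symm c1 c2
  have k1 : t * c * t ≠ a := by
    intro h1
    apply n2
    rw [← h1, tt]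
  have k2 : t * c * t ≠ t * a * t := by
    intro h1
    apply n1
    exact mul_left_cancel (mul_right_cancel h1)
  have c3 : Commute (t * c * t) (t * a * t) := by
    show _ = _
    rw [← tm, ← tm, c1.eq]
  have c4 : Commute (t * c * t) a := by
    have : Commute (t * c * t) (t * (t * a * t) * t) := by
      show _ = _
      rw [← tm, ← tm, c2.eq]
    rwa [tt] at this
  have q2 := h.inQ ha (tL c hc) (com a ha).symm c4 c3
  have q3 := h.inQ ha (tL a ha) (com a ha).symm (com a ha) (Commute.refl _)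
  have e1 : θ (π (a * c)) = π (a * (t * c * t)) := by
    rw [(hθπ _ q1).2, tm]
    have e2 : t * a * t * (t * c * t) = a * (t * a * t) * (a * (t * c * t)) := by
      rw [mul_mul (h.sq a ha) (com a ha)]
    rw [e2, hP.mul _ q3 _ q2, hP.ab, one_mul]
  rw [e1]
  refine ⟨hP.map _ (tL c hc) k1 k2 c4 c3, ?_, ?_⟩
  · intro h1
    exact fix c hc (hP.inj _ (tL c hc) k1 k2 c4 c3 c hc n1 n2 c1 c2 h1)
  · rw [← hP.mul _ q2 _ q1, ← hP.mul _ q1 _ q2, mul_mul (h.sq a ha) c4, mul_mul (h.sq a ha) c1,
      (com c hc).eq]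

end Gen

section Pair

variable {F : Type*} [Group F] {L : Set F}

/-- An element centralising two pairs with a common member centralises the members. -/
theorem comm_pair (h : Tr L) {g s n n' : F} (hs : s ∈ L) (hn : n ∈ L) (hn' : n' ∈ L) (h1 : s ≠ n) (h2 : s ≠ n')
    (h3 : n ≠ n') (c1 : Commute s n) (c2 : Commute s n') (g1 : Commute g (s * n)) (g2 : Commute g (s * n')) :
    Commute g s ∧ Commute g n := by
  have key : ∀ m, m ∈ L → s ≠ m → Commute s m → Commute g (s * m) →
      (g * s * g⁻¹ = s ∧ g * m * g⁻¹ = m) ∨ (g * s * g⁻¹ = m ∧ g * m * g⁻¹ = s) := by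
    intro m hm hsm cm gm
    refine pair_unique h hs hm (h.conj g s hs) (h.conj g m hm) cm hsm ?_ ?_
    · show g * s * g⁻¹ * (g * m * g⁻¹) = g * m * g⁻¹ * (g * s * g⁻¹)
      calc g * s * g⁻¹ * (g * m * g⁻¹) = g * (s * m) * g⁻¹ := by group
        _ = g * (m * s) * g⁻¹ := by rw [cm.eq]
        _ = _ := by group
    · have : g * (s * m) = s * m * g := gm.eq
      calc s * m = s * m * g * g⁻¹ := by group
        _ = g * (s * m) * g⁻¹ := by rw [this]
        _ = _ := by group
  have tr : ∀ m, g * m * g⁻¹ = m → Commute g m := by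
    intro m hm
    show g * m = m * g
    calc g * m = g * m * g⁻¹ * g := by group
      _ = m * g := by rw [hm]
  rcases key n hn h1 c1 g1 with ⟨a1, a2⟩ | ⟨a1, -⟩
  · exact ⟨tr s a1, tr n a2⟩
  · exfalso
    rcases key n' hn' h2 c2 g2 with ⟨b1, -⟩ | ⟨b1, -⟩
    · exact h1 (b1.symm.trans a1)
    · exact h3 (a1.symm.trans b1)

end Pair

end Inv

open Subgroup Cfsg Cfsg.Spor Cfsg.Agent.R08 Cfsg.Agent.R08.FiTwentyFour
open Cfsg.Agent.H459.Rad Cfsg.Agent.H483.Rad23

/-- an involution of `Fi24` commutes with a transposition -/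
theorem exists_comm {t : Fi24} (htt : t * t = 1) : ∃ f ∈ L, Commute t f := by
  refine exists_commute TetFi24B.pre (fun θ h2 hall =>
    NoFpf.fi22_no_fpf θ (fun t ht => (hall t ht).1) h2 (fun t ht => (hall t ht).2.1)
      (fun t ht => (hall t ht).2.2)) (fun x hx => ?_) htt
  have h1 := (inferInstance : (commutator Fi24).Normal).conj_mem x hx t
  rwa [inv_eq_of_mul_eq_one_left htt] at h1

/-- an element of `Fi24` centralizing `Fi24'` is `1` -/
theorem eq_one_of_comm {g : Fi24} (h : ∀ x ∈ commutator Fi24, g * x = x * g) : g = 1 := by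
  apply KFacts.FiTF.Pts.eq_one_of_comm_L
  intro d hd
  have h1 : 1 < {c | c ∈ L ∧ c ≠ d ∧ Commute c d}.ncard := by
    rw [ncard_commuting hd]; norm_num
  obtain ⟨b, c, ⟨hb, hbd, hbc⟩, ⟨hc, hcd, hcc⟩, hne⟩ := (Set.one_lt_ncard_iff (Set.finite_of_ncard_pos (by omega))).1 h1
  exact (comm_pair TetFi24A.tr hd hb hc hbd.symm hcd.symm hne hbc.symm hcc.symm
    (h _ (FiTwentyFour.even hd hb)) (h _ (FiTwentyFour.even hd hc))).1.eq

/-- the centralizer in `Fi24'` of a transposition of `Fi24` -/
theorem equiv_cent {a : Fi24} (ha : a ∈ L) (X : Subgroup Spor.Fi24')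
    (hX : ∀ k : Spor.Fi24', k ∈ X ↔ Commute (k : Fi24) a) : Nonempty (Fi23 ≃* X) := by
  have F := FiTwentyFour.facts
  obtain ⟨h, rfl⟩ := isConj_iff.1 (show IsConj (Fischer.Fi24Class.gen .l) a from ha)
  let ψ : Fi23 →* Fi24 := (MulAut.conj h).toMonoidHom.comp F.phi
  have hψi : Function.Injective ψ := (MulAut.conj h).injective.comp F.phi_injective
  have hψ : ∀ g : Fi24, g ∈ commutator Fi24 → g * (h * Fischer.Fi24Class.gen .l * h⁻¹) =
      (h * Fischer.Fi24Class.gen .l * h⁻¹) * g → ∃ k, ψ k = g := by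
    intro g hg hgc
    obtain ⟨k, hk⟩ := (F.mem_range_iff (h⁻¹ * g * h)).2 ⟨by
      calc h⁻¹ * g * h * Fischer.Fi24Class.gen .l
          = h⁻¹ * (g * (h * Fischer.Fi24Class.gen .l * h⁻¹)) * h := by group
        _ = h⁻¹ * ((h * Fischer.Fi24Class.gen .l * h⁻¹) * g) * h := by rw [hgc]
        _ = _ := by group, by
      rw [← mem_commutator_iff]
      have := (inferInstance : (commutator Fi24).Normal).conj_mem g hg h⁻¹
      rwa [inv_inv] at this⟩
    refine ⟨k, ?_⟩
    change h * F.phi k * h⁻¹ = g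
    rw [hk]
    group
  have hψc : ∀ k, ψ k ∈ commutator Fi24 ∧ ψ k * (h * Fischer.Fi24Class.gen .l * h⁻¹) =
      (h * Fischer.Fi24Class.gen .l * h⁻¹) * ψ k := by
    intro k
    have e : ψ k = h * F.phi k * h⁻¹ := rfl
    have h1 : F.phi k ∈ commutator Fi24 := mem_commutator_iff.2 (F.sgn_phi k)
    refine ⟨?_, ?_⟩
    · rw [e]
      exact (inferInstance : (commutator Fi24).Normal).conj_mem _ h1 h
    · rw [e]
      calc h * F.phi k * h⁻¹ * (h * Fischer.Fi24Class.gen .l * h⁻¹)
          = h * (F.phi k * Fischer.Fi24Class.gen .l) * h⁻¹ := by group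
        _ = h * (Fischer.Fi24Class.gen .l * F.phi k) * h⁻¹ := by rw [F.phi_comm]
        _ = _ := by group
  let f : Fi23 →* X :=
    { toFun := fun k => ⟨⟨ψ k, (hψc k).1⟩, (hX _).2 (hψc k).2⟩
      map_one' := Subtype.ext (Subtype.ext (map_one ψ))
      map_mul' := fun k l => Subtype.ext (Subtype.ext (map_mul ψ k l)) }
  have hf : Function.Bijective f := by
    constructor
    · intro k l e
      apply hψi
      exact congrArg (fun y : X => ((y : Spor.Fi24') : Fi24)) e
    · rintro ⟨g, hg⟩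
      obtain ⟨k, hk⟩ := hψ g g.2 ((hX g).1 hg)
      exact ⟨k, Subtype.ext (Subtype.ext hk)⟩
  exact ⟨MulEquiv.ofBijective f hf⟩

/-- the centralizer in `Fi24'` of a transposition of `Fi24`, as a subgroup of `Fi24'` -/
def Xf (f : Fi24) : Subgroup Spor.Fi24' := (centralizer ({f} : Set Fi24)).subgroupOf (commutator Fi24)

theorem mem_Xf {f : Fi24} {k : Spor.Fi24'} : k ∈ Xf f ↔ Commute (k : Fi24) f := by
  unfold Xf
  rw [mem_subgroupOf, mem_centralizer_singleton_iff]
  rfl

/-- **`NoRC 2` for `Fi24'`** -/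
theorem noRC_fi24_model [Finite Spor.Fi24'] : NoRC 2 Spor.Fi24' := by
  intro x hx hR
  have hT := TetFi24A.tr
  obtain ⟨g, hg⟩ := KFacts.FiTF.exists_conj x
  have hxx : x * x = 1 := by rw [← pow_two, ← hx, pow_orderOf_eq_one]
  have hgg : g * g = 1 := by
    apply eq_one_of_comm
    intro k hk
    have h1 : x (x ⟨k, hk⟩) = ⟨k, hk⟩ := DFunLike.congr_fun hxx ⟨k, hk⟩
    have h2 := congrArg Subtype.val h1
    rw [hg, hg] at h2
    have h3 : g * (g * k * g⁻¹) * g⁻¹ = k := h2
    calc g * g * k = g * (g * k * g⁻¹) * g⁻¹ * (g * g) := by group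
      _ = k * (g * g) := by rw [h3]
  obtain ⟨f₀, hf₀, hgf₀⟩ := exists_comm hgg
  have step : ∀ f ∈ L, Commute g f → ∀ t ∈ L, Commute t f → Commute g t := by
    intro f hf hgf t ht htf
    obtain ⟨e⟩ := equiv_cent hf (Xf f) fun k => mem_Xf
    have hs23 : IsSimpleGroup Fi23 := Fischer.Fi23Simple.isFi23.1
    have hf23 : Finite Fi23 := Finite.of_equiv _ e.symm.toEquiv
    have hsX : IsSimpleGroup (Xf f) := (MulEquiv.isSimpleGroup_congr e).1 hs23
    have hns : ¬ Group.IsSolvable (Xf f) := by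
      intro h1
      have h2 := IsSimpleGroup.comm_iff_isSolvable.2 h1
      apply Fischer.Fi23Class.z0_ncomm
      apply e.injective
      rw [map_mul, map_mul]
      exact h2 _ _
    have hrad : solvableRadical (Xf f) = ⊥ := rad_eq_bot_of_simple hns
    have hM : Xf f ≠ ⊤ := by
      intro h1
      have h2 : f = 1 := by
        apply eq_one_of_comm
        intro k hk
        have h3 : (⟨k, hk⟩ : Spor.Fi24') ∈ Xf f := by rw [h1]; exact mem_top _
        exact (mem_Xf.1 h3).eq.symm
      exact FiTwentyFour.odd hf (h2 ▸ one_mem _)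
    have hinv : ∀ m ∈ Xf f, x m ∈ Xf f := by
      intro m hm
      rw [mem_Xf] at hm ⊢
      rw [hg]
      exact (hgf.mul_left hm).mul_left hgf.inv_left
    have h1 : t * f ∈ commutator Fi24 := FiTwentyFour.even ht hf
    have h2 : (⟨t * f, h1⟩ : Spor.Fi24') ∈ Xf f := mem_Xf.2 (htf.mul_left (Commute.refl f))
    have h3 := hR.eq_of_rad_eq_bot hM hinv hrad h2
    have h4 := congrArg Subtype.val h3
    rw [hg] at h4
    have h5 : Commute g (t * f) := mul_inv_eq_iff_eq_mul.1 h4
    have h6 : t = t * f * f := (hT.cancel' hf t).symm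
    rw [h6]
    exact h5.mul_right hgf
  -- all generators of a conjugate system commute with `g`
  obtain ⟨h, rfl⟩ := isConj_iff.1 (show IsConj (Fischer.Fi24Class.gen .l) f₀ from hf₀)
  have hmem : ∀ y, h * Fischer.Fi24Class.gen y * h⁻¹ ∈ L := fun y => FiTwentyFour.conj (FiTwentyFour.gen_mem_L y) h
  have hcm : ∀ y z, coxLabel Fi24.edges y z = 2 → Commute (h * Fischer.Fi24Class.gen y * h⁻¹) (h * Fischer.Fi24Class.gen z * h⁻¹) := by
    intro y z hyz
    have h1 := Fischer.Fi24Class.gen_comm y z hyz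
    show h * Fischer.Fi24Class.gen y * h⁻¹ * (h * Fischer.Fi24Class.gen z * h⁻¹) = h * Fischer.Fi24Class.gen z * h⁻¹ * (h * Fischer.Fi24Class.gen y * h⁻¹)
    calc h * Fischer.Fi24Class.gen y * h⁻¹ * (h * Fischer.Fi24Class.gen z * h⁻¹)
        = h * (Fischer.Fi24Class.gen y * Fischer.Fi24Class.gen z) * h⁻¹ := by group
      _ = h * (Fischer.Fi24Class.gen z * Fischer.Fi24Class.gen y) * h⁻¹ := by rw [h1]
      _ = _ := by group
  have hb : Commute g (h * Fischer.Fi24Class.gen .b * h⁻¹) :=
    step _ (hmem .l) hgf₀ _ (hmem .b) (hcm _ _ (by decide))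
  have hall : ∀ y, Commute g (h * Fischer.Fi24Class.gen y * h⁻¹) := by
    intro y
    by_cases hy : y = .k
    · subst hy
      exact step _ (hmem .b) hb _ (hmem .k) (hcm _ _ (by decide))
    · by_cases hy' : y = .l
      · subst hy'; exact hgf₀
      · exact step _ (hmem .l) hgf₀ _ (hmem y) (hcm _ _ (by
          revert hy hy'
          cases y <;> decide))
  have h1 : h⁻¹ * g * h = 1 := by
    apply KFacts.FiTF.Pts.eq_one_of_comm
    intro y
    have h2 : g * (h * Fischer.Fi24Class.gen y * h⁻¹) = h * Fischer.Fi24Class.gen y * h⁻¹ * g := (hall y).eq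
    show h⁻¹ * g * h * Fischer.Fi24Class.gen y = Fischer.Fi24Class.gen y * (h⁻¹ * g * h)
    calc h⁻¹ * g * h * Fischer.Fi24Class.gen y = h⁻¹ * (g * (h * Fischer.Fi24Class.gen y * h⁻¹)) * h := by group
      _ = h⁻¹ * (h * Fischer.Fi24Class.gen y * h⁻¹ * g) * h := by rw [h2]
      _ = _ := by group
  have h2 : g = 1 := by
    calc g = h * (h⁻¹ * g * h) * h⁻¹ := by group
      _ = 1 := by rw [h1]; group
  have h3 : x = 1 := by
    ext k
    rw [hg, h2]
    simp
  rw [h3, orderOf_one] at hx
  omega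

/-- **Row `Fi24'`, order two** -/
theorem row2_fi24 {K : Type*} [Group K] [Finite K] [IsSimpleGroup K] (h : Cfsg.Spor.IsoFi24' K) :
    Cfsg.Agent.H483.Rad23.Row23 2 K := by
  obtain ⟨e⟩ := h
  have : Finite Spor.Fi24' := Finite.of_equiv K e.toEquiv
  exact (noRC_fi24_model.congr e).row

end Cfsg.Agent.H842.RadTwo
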